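import Cfsg.Agent.GOLD.Main

set_option autoImplicit false
set_option linter.unusedSectionVars false
set_option linter.unusedVariables false
set_option linter.unusedSimpArgs false

namespace Cfsg.Agent.PN

open Subgroup

theorem gold_orb {G : Type*} [Group G] (P : Subgroup G) (x : G) (X : Set G)
    (h1 : ∀ p ∈ P, p * x * p⁻¹ ∈ X) (h2 : ∀ y ∈ X, ∃ p ∈ P, p * x * p⁻¹ = y) :
    X.ncard ∣ Nat.card P := by
  let _ : MulAction P G := MulAction.compHom G (MulAut.conj.comp P.subtype)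
  have e : MulAction.orbit P x = X := Set.ext fun y =>
    ⟨fun ⟨p, hp⟩ => hp ▸ h1 p p.2, fun hy => let ⟨p, hp, e⟩ := h2 y hy; ⟨⟨p, hp⟩, e⟩⟩
  rw [← e, ← MulAction.index_stabilizer]
  exact index_dvd_card _

section

variable {G : Type*} [Group G] [Finite G] {K A J R : Subgroup G} {𝒯 : Set G}

theorem gold_fix (hT : ∀ x ∈ 𝒯, x ∈ A) (ea : GOLD.EA A)
    (perm : ∀ g ∈ normalizer (A : Set G), ∀ x ∈ 𝒯, g * x * g⁻¹ ∈ 𝒯)
    (pair : ∀ a ∈ 𝒯, ∀ b ∈ 𝒯, ∀ c ∈ 𝒯, ∀ d ∈ 𝒯, a ≠ b → a * b = c * d → c = a ∨ c = b)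
    (hR : R ≤ J) (h4 : 4 ≤ (GOLD.CO J).relIndex A) (ht : GOLD.TransOn R A (A ⊓ GOLD.CO J))
    {a : G} (ha : a ∈ 𝒯) (n : a ∉ GOLD.CO J) :
    (∃ r ∈ R, r * a * r⁻¹ ≠ a) ∧ ∀ b ∈ 𝒯, a * b ∈ GOLD.CO J → a = b := by
  have h1 : ∃ r ∈ R, r * a * r⁻¹ ≠ a := by
    by_contra hc
    push Not at hc
    obtain ⟨b, hb, h1, h2⟩ := GOLD.exists_third (B := GOLD.CO J) (by omega) (hT a ha)
    obtain ⟨r, hr, e⟩ := ht.trans a (hT a ha) (fun e => n e.2) b hb (fun e => h1 e.2)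
    rw [hc r hr] at e
    exact h2 e.2
  refine ⟨h1, fun b hb hab => by_contra fun ne => ?_⟩
  obtain ⟨r, hr, e⟩ := h1
  have hA := A.mul_mem (hT a ha) (hT b hb)
  have h2 : a * b * r * (a * b)⁻¹ * r⁻¹ ∈ A := by
    rw [show a * b * r * (a * b)⁻¹ * r⁻¹ = a * b * (r * (a * b)⁻¹ * r⁻¹) by group]
    exact A.mul_mem hA ((mem_normalizer_iff.1 (ht.norm hr) _).1 (A.inv_mem hA))
  have h3 : a * b * r * (a * b)⁻¹ * r⁻¹ ∈ (⊥ : Subgroup G) :=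
    GOLD.mem_of_sq_mem (GOLD.od_O J) (hab.2.2 r (hR hr)) (by rw [ea.sq h2]; exact one_mem _)
  have h5 : a * b = r * a * r⁻¹ * (r * b * r⁻¹) := by
    rw [mem_bot, mul_inv_eq_one, mul_inv_eq_iff_eq_mul] at h3
    calc a * b = a * b * r * r⁻¹ := by group
      _ = _ := by rw [h3]; group
  rcases pair a ha b hb _ (perm r (ht.norm hr) a ha) _ (perm r (ht.norm hr) b hb) ne h5 with
    h | h
  · exact e h
  · rw [h, ea.comm (hT a ha) (hT b hb), mul_right_inj] at h5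
    have h6 : r ∈ centralizer ({a} : Set G) := GOLD.mem_of_sq_mem ht.odd hr
      (mem_centralizer_singleton_iff.2 (by
        calc r * r * a = r * (r * a * r⁻¹) * r⁻¹ * (r * r) := by group
          _ = _ := by rw [h, ← h5]))
    exact e (by rw [mem_centralizer_singleton_iff.1 h6, mul_inv_cancel_right])

end

theorem le_norm_of_sc {G : Type*} [Group G] [Finite G] {K A S : Subgroup G} {𝒯 : Set G}
    (gen : A = closure 𝒯) (ea : GOLD.EA A) (sc : GOLD.SC K A)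
    (perm : ∀ g ∈ normalizer (A : Set G), ∀ x ∈ 𝒯, g * x * g⁻¹ ∈ 𝒯)
    (pair : ∀ a ∈ 𝒯, ∀ b ∈ 𝒯, ∀ c ∈ 𝒯, ∀ d ∈ 𝒯, a ≠ b → a * b = c * d → c = a ∨ c = b)
    (hSK : S ≤ K) (hSA : S ≤ normalizer (A : Set G)) (hS : IsPGroup 2 S)
    (tr : ∀ a ∈ 𝒯, ∀ b ∈ 𝒯, ∃ s ∈ S, s * a * s⁻¹ = b)
    (hO : GOLD.O K ≤ centralizer (A : Set G)) : K ≤ normalizer (A : Set G) := by
  have hs := GOLD.str sc ea
  have hT : ∀ x ∈ 𝒯, x ∈ A := fun x hx => gen ▸ subset_closure hx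
  have fx : ∀ J, GOLD.AC K A J → ∀ a ∈ 𝒯, a ∉ GOLD.CO J →
      (∃ r ∈ J ⊓ normalizer (A : Set G), r * a * r⁻¹ ≠ a) ∧
        ∀ b ∈ 𝒯, a * b ∈ GOLD.CO J → a = b := fun J hJ a ha n => by
    obtain ⟨R, r1, r2, -⟩ := (hs.acd J hJ).trans
    obtain ⟨⟨r, h1, h2⟩, h3⟩ := gold_fix hT ea perm pair r1 (hs.acd J hJ).four r2 ha n
    exact ⟨⟨r, ⟨r1 h1, r2.norm h1⟩, h2⟩, h3⟩
  have uq : ∀ J J', GOLD.AC K A J → GOLD.AC K A J' → ∀ a ∈ 𝒯, a ∉ GOLD.CO J → a ∉ GOLD.CO J' →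
      J = J' := fun J J' hJ hJ' a ha n n' => by
    by_contra ne
    obtain ⟨r, hr, e⟩ := (fx J' hJ' a ha n').1
    refine e ((fx J hJ a ha n).2 _ (perm r hr.2 a ha) (GOLD.le_CO_of_ne hJ.1 hJ'.1 ne ?_)).symm
    rw [show a * (r * a * r⁻¹) = a * r * a * r⁻¹ by group]
    refine J'.mul_mem ?_ (J'.inv_mem hr.1)
    have := (mem_normalizer_iff.1 ((hs.acd J' hJ').norm (hT a ha)) r).1 hr.1
    rwa [ea.inv_eq (hT a ha)] at this
  have no : ∀ J, ¬ GOLD.AC K A J := fun J hJ => by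
    obtain ⟨R, r1, r2, -⟩ := (hs.acd J hJ).trans
    obtain ⟨x, hx, n⟩ : ∃ x ∈ 𝒯, x ∉ GOLD.CO J := by
      by_contra hc
      push Not at hc
      exact hJ.2 (gen ▸ (closure_le _).2 hc)
    have st : ∀ p ∈ normalizer (J : Set G), p ∈ normalizer (A : Set G) →
        p * x * p⁻¹ ∈ {y ∈ 𝒯 | y ∉ GOLD.CO J} := fun p h1 h2 =>
      ⟨perm p h2 x hx, mt (mem_normalizer_iff.1 (GOLD.norm_le_norm_CO J h1) x).2 n⟩
    have d1 := gold_orb R x _ (fun p hp => st p (le_normalizer (r1 hp)) (r2.norm hp))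
      fun y hy => by
      obtain ⟨r, hr, e⟩ := r2.trans x (hT x hx) (fun e => n e.2) y (hT y hy.1) (fun e => hy.2 e.2)
      have h1 := perm r (r2.norm hr) x hx
      refine ⟨r, hr, ((fx J hJ y hy.1 hy.2).2 _ h1 ?_).symm⟩
      rw [ea.comm (hT y hy.1) (hT _ h1), ← ea.inv_eq (hT y hy.1)]
      exact e.2
    have d2 := gold_orb (S ⊓ normalizer (J : Set G)) x _ (fun p hp => st p hp.2 (hSA hp.1))
      fun y hy => by
      obtain ⟨s, h1, e⟩ := tr x hx y hy.1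
      refine ⟨s, ⟨h1, H49.mem_norm_iff_cj.2 (uq _ _ ?_ hJ y hy.1 ?_ hy.2)⟩, e⟩
      · have := hJ.conj s
        rwa [H49.cj_eq_of_mem (hSK h1), H49.cj_eq_of_mem_norm (hSA h1)] at this
      · rw [← GOLD.cj_CO, H49.mem_cj, ← e]
        simpa [mul_assoc] using n
    have : Fact (Nat.Prime 2) := ⟨Nat.prime_two⟩
    obtain ⟨k, hk⟩ := IsPGroup.iff_card.1 (hS.to_inf_left (K := normalizer (J : Set G)))
    rw [hk] at d2
    have d3 := Nat.eq_one_of_dvd_coprimes (r2.odd.pow_right k) d1 d2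
    obtain ⟨z, hz⟩ := Set.ncard_eq_one.1 d3
    obtain ⟨r, hr, e⟩ := (fx J hJ x hx n).1
    have a1 := st r (le_normalizer hr.1) hr.2
    have a2 : x ∈ {y ∈ 𝒯 | y ∉ GOLD.CO J} := ⟨hx, n⟩
    rw [hz] at a1 a2
    exact e (a1.trans a2.symm)
  intro k hk
  refine H49.mem_norm_of_cj_le fun y hy => ?_
  have h1 := hs.K_le (GOLD.cj_le_Kof hk hy)
  rw [show {J | GOLD.AC K A J} = ∅ from Set.eq_empty_of_forall_notMem no, sSup_empty,
    sup_bot_eq] at h1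
  obtain ⟨a, ha, o, ho, rfl⟩ :=
    (H49.mem_sup_of_norm_left (hO.trans (centralizer_le_normalizer _))).1 h1
  obtain ⟨b, hb, e⟩ := H49.mem_cj'.1 hy
  have h2 : a * o * (a * o) = 1 := by
    rw [e, show k * b * k⁻¹ * (k * b * k⁻¹) = k * (b * b) * k⁻¹ by group, ea.sq hb]; group
  have h3 : o ∈ (⊥ : Subgroup G) := GOLD.mem_of_sq_mem (GOLD.od_O K) ho (by
    rw [mul_assoc, ← mul_assoc o, ← hO ho a ha, ← mul_assoc, ← mul_assoc, ea.sq ha, one_mul] at h2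
    exact h2)
  rwa [mem_bot.1 h3, mul_one]

end Cfsg.Agent.PN
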