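import Cfsg.Agent.PN.Defs
import Cfsg.Agent.H66.PnGen
import Cfsg.Agent.S0205

set_option autoImplicit false
set_option linter.unusedSectionVars false
set_option linter.unusedVariables false
set_option linter.unusedSimpArgs false
set_option linter.unnecessarySeqFocus false

namespace Cfsg.Agent.PN

open Quaternion Matrix Subgroup
open scoped commutatorElement

variable {F : Type*} [Field F] {ι : Type*} [Fintype ι] [DecidableEq ι]

theorem l2_ab {G : Type*} [Group G] [Finite G] (n : ℕ) : ∀ O : Subgroup G, Nat.card O = n →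
    Odd (Nat.card O) → O ≠ ⊥ → ∃ V ≤ O, V ≠ ⊥ ∧ (∀ a ∈ V, ∀ b ∈ V, a * b = b * a) ∧
      normalizer (O : Set G) ≤ normalizer (V : Set G) := by
  induction n using Nat.strong_induction_on with
  | _ n ih =>
  intro O hn ho hb
  by_cases hc : ⁅O, O⁆ = ⊥
  · refine ⟨O, le_rfl, hb, fun a ha b hb => ?_, le_rfl⟩
    have := commutator_mem_commutator ha hb
    rwa [hc, mem_bot, commutatorElement_eq_one_iff_mul_comm] at this
  · have hs : Group.IsSolvable O := S0205.result ho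
    have : Nontrivial O := (nontrivial_iff_ne_bot O).2 hb
    have hlt : ⁅O, O⁆ < O := by
      have h1 : commutator O < ⊤ := Group.IsSolvable.commutator_lt_top_of_nontrivial O
      rw [← map_subtype_commutator]
      conv_rhs => rw [← range_subtype O, MonoidHom.range_eq_map]
      exact (map_lt_map_iff_of_injective O.subtype_injective).2 h1
    obtain ⟨V, v1, v2, v3, v4⟩ := ih _ (hn ▸ lt_of_not_ge fun h =>
      hlt.ne (eq_of_le_of_card_ge hlt.le h)) ⁅O, O⁆ rfl
      (ho.of_dvd_nat (card_dvd_of_le hlt.le)) hc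
    exact ⟨V, v1.trans hlt.le, v2, v3, le_trans
      (fun g hg => mem_normalizer_fintype fun x hx => H85.conj_mem_comm hg hx) v4⟩

theorem l2_Zn : (Z F).Normal := ⟨fun n hn g => by rcases hn with rfl | rfl <;> simp [mem_Z]⟩

theorem l2_norm [Finite F] {u : U1 F} (h : (u * ui * u⁻¹ ∈ Q F ∧ u * uj * u⁻¹ ∈ Q F) ∨
    (u * ui * u⁻¹ ∈ Q F ∧ u * uk * u⁻¹ ∈ Q F) ∨ (u * uj * u⁻¹ ∈ Q F ∧ u * uk * u⁻¹ ∈ Q F)) :
    u ∈ normalizer (Q F : Set (U1 F)) := by
  let K : Subgroup (U1 F) := (Q F).comap (MulAut.conj u).toMonoidHom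
  have hK : ∀ x, x ∈ K ↔ u * x * u⁻¹ ∈ Q F := fun x => Iff.rfl
  have e1 : (ui : U1 F) * uj = uk := Subtype.ext qi_qj
  have e2 : (uj : U1 F) * uk = ui := Subtype.ext qj_qk
  have e3 : (uk : U1 F) * ui = uj := Subtype.ext qk_qi
  simp only [← hK] at h
  have h3 : ui ∈ K ∧ uj ∈ K ∧ uk ∈ K := by
    rcases h with ⟨a, b⟩ | ⟨a, b⟩ | ⟨a, b⟩
    · exact ⟨a, b, e1 ▸ mul_mem a b⟩
    · exact ⟨a, e3 ▸ mul_mem b a, b⟩
    · exact ⟨e2 ▸ mul_mem a b, a, b⟩
  have hm : (-1 : U1 F) ∈ K := by rw [hK]; simpa using neg_one_mem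
  have hn : ∀ x ∈ K, -x ∈ K := fun x hx => by rw [← neg_one_mul]; exact mul_mem hm hx
  refine mem_normalizer_fintype fun x hx => (hK x).1 ?_
  rcases hx with h | h | h | h | h | h | h | h
  · rw [show x = 1 from Subtype.ext h]; exact one_mem _
  · rw [show x = -1 from Subtype.ext h]; exact hm
  · rw [show x = ui from Subtype.ext h]; exact h3.1
  · rw [show x = -ui from Subtype.ext h]; exact hn _ h3.1
  · rw [show x = uj from Subtype.ext h]; exact h3.2.1
  · rw [show x = -uj from Subtype.ext h]; exact hn _ h3.2.1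
  · rw [show x = uk from Subtype.ext h]; exact h3.2.2
  · rw [show x = -uk from Subtype.ext h]; exact hn _ h3.2.2

theorem l2_Q_comm {a b : U1 F} (ha : a ∈ Q F) (hb : b ∈ Q F) : (a * b)⁻¹ * (b * a) ∈ Z F := by
  have : b * a = a * b ∨ b * a = -(a * b) := by
    simp only [Subtype.ext_iff, coe_mul_U1, coe_neg_U1]
    rcases ha with h | h | h | h | h | h | h | h <;>
      rcases hb with h' | h' | h' | h' | h' | h' | h' | h' <;> rw [h, h'] <;> simp
  rcases this with h | h <;> rw [h] <;> simp [mem_Z]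

/-- A non-central element commuting with its conjugates under `i` and `j`. -/
theorem l2_axis [NeZero (2 : F)] {z : U1 F} (hz : z ∉ Z F)
    (hi : z * (ui * z * ui⁻¹) = ui * z * ui⁻¹ * z) (hj : z * (uj * z * uj⁻¹) = uj * z * uj⁻¹ * z) :
    ∃ e : U1 F, (e = ui ∨ e = uj ∨ e = uk) ∧ ∃ r s : F, s ≠ 0 ∧ (z : ℍ[F]) = (r : ℍ[F]) + s • e := by
  have h2 := two_ne (F := F)
  have h4 : (4 : F) ≠ 0 := by
    rw [show (4 : F) = 2 * 2 by norm_num]; exact mul_ne_zero h2 h2
  have hi' := congrArg Subtype.val hi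
  have hj' := congrArg Subtype.val hj
  simp only [coe_mul_U1, coe_inv_U1, coe_ui, coe_uj] at hi' hj'
  have e1 := congrArg QuaternionAlgebra.imJ hi'
  have e2 := congrArg QuaternionAlgebra.imK hi'
  have e3 := congrArg QuaternionAlgebra.imI hj'
  simp at e1 e2 e3
  have f1 : (z : ℍ[F]).imI * (z : ℍ[F]).imK = 0 :=
    mul_left_cancel₀ h4 (by linear_combination e1)
  have f2 : (z : ℍ[F]).imI * (z : ℍ[F]).imJ = 0 :=
    mul_left_cancel₀ h4 (by linear_combination -e2)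
  have f3 : (z : ℍ[F]).imJ * (z : ℍ[F]).imK = 0 :=
    mul_left_cancel₀ h4 (by linear_combination -e3)
  by_cases a : (z : ℍ[F]).imI = 0
  · by_cases b : (z : ℍ[F]).imJ = 0
    · by_cases c : (z : ℍ[F]).imK = 0
      · exact absurd (mem_Z_of_real (r := (z : ℍ[F]).re) (by ext <;> simp [a, b, c])) hz
      · exact ⟨uk, by simp, _, _, c, by ext <;> simp [a, b] <;> rfl⟩
    · have c := (mul_eq_zero.1 f3).resolve_left b
      exact ⟨uj, by simp, _, _, b, by ext <;> simp [a, c] <;> rfl⟩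
  · have b := (mul_eq_zero.1 f2).resolve_left a
    have c := (mul_eq_zero.1 f1).resolve_left a
    exact ⟨ui, by simp, _, _, a, by ext <;> simp [b, c] <;> rfl⟩

theorem l2_conj [NeZero (2 : F)] {z e n : U1 F} (he : e * e = -1) {r s : F} (hs : s ≠ 0)
    (hz : (z : ℍ[F]) = (r : ℍ[F]) + s • e) (h : z * (n * z * n⁻¹) = n * z * n⁻¹ * z) :
    n * e * n⁻¹ = e ∨ n * e * n⁻¹ = -e := by
  have h1 : ((n * z * n⁻¹ : U1 F) : ℍ[F]) = (r : ℍ[F]) + s • ((n * e * n⁻¹ : U1 F) : ℍ[F]) := by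
    simp only [coe_mul_U1, coe_inv_U1]
    rw [hz, mul_add, add_mul, ← coe_commutes, mul_assoc (r : ℍ[F]), mul_star_U1, mul_one,
      mul_smul_comm, smul_mul_assoc]
  have h2 := congrArg Subtype.val h
  rw [coe_mul_U1, coe_mul_U1 _ z, h1, hz] at h2
  have h3 : e * (n * e * n⁻¹) = n * e * n⁻¹ * e := by
    apply Subtype.ext
    rw [coe_mul_U1, coe_mul_U1 _ e]
    generalize ((n * e * n⁻¹ : U1 F) : ℍ[F]) = f at h2 ⊢
    simp only [mul_add, add_mul, mul_smul_comm, smul_mul_assoc, coe_mul_eq_smul,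
      mul_coe_eq_smul, smul_smul] at h2
    have h4 : (s * s) • ((e : ℍ[F]) * f) = (s * s) • (f * e) := by
      rw [mul_comm s r] at h2
      linear_combination (norm := module) h2
    exact smul_right_injective _ (mul_ne_zero hs hs) h4
  have h5 : n * e * n⁻¹ * (n * e * n⁻¹) = -1 := by
    rw [show n * e * n⁻¹ * (n * e * n⁻¹) = n * (e * e) * n⁻¹ by group, he]; simp
  have h6 : n * e * n⁻¹ * e ∈ Z F := mem_Z_of_sq (by
    rw [mul_assoc, ← mul_assoc e, h3, mul_assoc _ e e, he, ← mul_assoc, h5]; simp)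
  have h7 : n * e * n⁻¹ = -(n * e * n⁻¹ * e * e) := by rw [mul_assoc _ e e, he]; simp
  rcases h6 with h6 | h6
  · right; rw [h7, h6, one_mul]
  · left; rw [h7, h6]; simp

theorem l2 [Finite F] [NeZero (2 : F)] (hs : Small F) {X Y : Subgroup (U1 F)} (hQ : Q F ≤ X)
    (hw : uw ∉ X) (h1 : Y ≤ normalizer (X : Set (U1 F))) {v : U1 F} (hv : v = uw ∨ v = uw⁻¹)
    (h2 : ∀ u ∈ Y, v * u * v⁻¹ ∈ normalizer (X : Set (U1 F))) :
    Y ≤ normalizer (Q F : Set (U1 F)) := by
  have := l2_Zn (F := F)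
  obtain ⟨⟨P, hP⟩, hN⟩ := hs
  let π := QuotientGroup.mk' (Z F)
  have hπ : Function.Surjective π := QuotientGroup.mk'_surjective _
  have hcm : ∀ x, π x ∈ (Q F).map π → x ∈ Q F := fun x hx => by
    have : x ∈ ((Q F).map π).comap π := hx
    rwa [comap_map_eq, QuotientGroup.ker_mk', sup_eq_left.2 Z_le_Q] at this
  let S := P.mapSurjective hπ
  have hS : (S : Subgroup _) = (Q F).map π := by rw [← hP]; rfl
  have hS' : ∀ x, x ∈ S ↔ x ∈ (Q F).map π := fun x => by rw [← hS]; rfl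
  obtain ⟨O, o1, o2, o3, o4⟩ := H66.Pn.exists_compl S (K := X.map π) (hS ▸ map_mono hQ) (by
    rintro _ ⟨⟨x, hx, rfl⟩, hn⟩ y hy
    obtain ⟨q, hq, rfl⟩ := (hS' y).1 hy
    have hxn : x ∈ normalizer (Q F : Set (U1 F)) := mem_normalizer_fintype fun a ha => hcm _ (by
      rw [map_mul, map_mul, map_inv]
      exact (hS' _).1 ((mem_set_normalizer_iff.1 hn _).1 ((hS' _).2 ⟨a, ha, rfl⟩)))
    obtain ⟨a, ha, e, rfl⟩ := hN x hxn
    have hwe : (uw : U1 F) ^ e ∈ X := (mul_mem_cancel_left (hQ ha)).1 hx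
    have he : (uw : U1 F) ^ e = 1 := by
      rw [← Nat.div_add_mod e 3, pow_add, pow_mul, uw_cube, one_pow, one_mul] at hwe ⊢
      have : e % 3 = 0 ∨ e % 3 = 1 ∨ e % 3 = 2 := by omega
      rcases this with h | h | h <;> rw [h] at hwe ⊢
      · rfl
      · exact absurd (by simpa using hwe) hw
      · refine absurd ?_ hw
        have := mul_mem hwe hwe
        rwa [← pow_add, show 2 + 2 = 3 + 1 from rfl, pow_add, uw_cube, one_mul, pow_one] at this
    rw [he, mul_one, ← map_mul, ← map_mul]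
    exact QuotientGroup.eq.2 (l2_Q_comm hq ha))
  by_cases hO : O = ⊥
  · have : X = Q F := le_antisymm (fun x hx => by
      obtain ⟨o, ho, s, hs, e⟩ := o4 (π x) ⟨x, hx, rfl⟩
      rw [hO, mem_bot] at ho
      rw [ho, one_mul] at e
      exact hcm x (e ▸ (hS' s).1 hs)) hQ
    rwa [this] at h1
  obtain ⟨V, v1, v2, v3, v4⟩ := l2_ab _ O rfl o2 hO
  obtain ⟨⟨zb, hzb⟩, hz1⟩ := (ne_bot_iff_exists_ne_one).1 v2
  obtain ⟨z, rfl⟩ := hπ zb
  have hz : z ∉ Z F := fun h => hz1 (Subtype.ext ((QuotientGroup.eq_one_iff z).2 h))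
  have hodd : ∀ o ∈ O, Odd (orderOf o) := fun o ho =>
    o2.of_dvd_nat (orderOf_dvd_natCard O ho)
  have key : ∀ n ∈ normalizer (X : Set (U1 F)), z * (n * z * n⁻¹) = n * z * n⁻¹ * z := by
    intro n hn
    have hnO : π n ∈ normalizer (O : Set _) := mem_normalizer_fintype fun o ho => by
      refine o3 _ ?_ ?_
      · obtain ⟨x, hx, rfl⟩ := o1 ho
        exact ⟨n * x * n⁻¹, (mem_normalizer_iff.1 hn x).1 hx, by simp⟩
      · rw [show π n * o * (π n)⁻¹ = MulAut.conj (π n) o from rfl, MulEquiv.orderOf_eq]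
        exact hodd o ho
    have hz' : π (n * z * n⁻¹) ∈ V := by
      rw [map_mul, map_mul, map_inv]
      exact (mem_normalizer_iff.1 (v4 hnO) _).1 hzb
    generalize n * z * n⁻¹ = z' at hz' ⊢
    have hc := v3 _ hzb _ hz'
    rw [← map_mul, ← map_mul] at hc
    rcases (QuotientGroup.eq.1 hc : _ ∈ Z F) with h | h
    · exact inv_mul_eq_one.1 h
    · exfalso
      have h3 : z' * z = -(z * z') := by rw [inv_mul_eq_iff_eq_mul.1 h]; simp
      have h4 : ∀ k : ℕ, z' * z ^ k = (-1) ^ k * (z ^ k * z') := fun k => by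
        induction k with
        | zero => simp
        | succ k ih =>
          rw [pow_succ, ← mul_assoc, ih, mul_assoc, mul_assoc, h3, pow_succ]
          simp [mul_assoc]
      have h5 : z ^ orderOf (π z) ∈ Z F := (QuotientGroup.eq_one_iff _).1 (by
        change π _ = 1
        rw [map_pow, pow_orderOf_eq_one])
      have h6 := h4 (orderOf (π z))
      rw [(hodd _ (v1 hzb)).neg_one_pow] at h6
      rcases h5 with h5 | h5 <;> rw [h5] at h6
      · exact neg_one_ne (mul_right_cancel (b := z') (by simpa using h6.symm))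
      · exact neg_one_ne (mul_right_cancel (b := z') (by simpa using h6))
  obtain ⟨e, he, r, s, hs, hzz⟩ := l2_axis hz (key _ (le_normalizer (hQ ui_mem)))
    (key _ (le_normalizer (hQ uj_mem)))
  have hee : e * e = -1 := by
    rcases he with rfl | rfl | rfl <;> exact Subtype.ext (by simp [coe_mul_U1, coe_neg_U1])
  have hneg : ∀ x ∈ Q F, -x ∈ Q F := fun x hx => by
    rw [← neg_one_mul]; exact mul_mem neg_one_mem hx
  intro u hu
  have a1 : e ∈ Q F → u * e * u⁻¹ ∈ Q F := fun h => by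
    rcases l2_conj hee hs hzz (key u (h1 hu)) with h' | h' <;> rw [h']
    exacts [h, hneg _ h]
  have a2 : ∀ f ∈ Q F, v * f * v⁻¹ = e → u * f * u⁻¹ ∈ Q F := fun f hf h => by
    have h0 : u * f * u⁻¹ = v⁻¹ * (v * u * v⁻¹ * e * (v * u * v⁻¹)⁻¹) * v := by rw [← h]; group
    rcases l2_conj hee hs hzz (key _ (h2 u hu)) with h' | h' <;> rw [h0, h', ← h]
    · rwa [show v⁻¹ * (v * f * v⁻¹) * v = f by group]
    · rw [mul_neg, neg_mul, show v⁻¹ * (v * f * v⁻¹) * v = f by group]; exact hneg _ hf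
  have inv : ∀ a b : U1 F, uw * a * uw⁻¹ = b → uw⁻¹ * b * uw⁻¹⁻¹ = a := fun a b h => by
    rw [← h]; group
  apply l2_norm
  rcases hv with rfl | rfl <;> rcases he with rfl | rfl | rfl
  · exact Or.inl ⟨a1 ui_mem, a2 _ uj_mem uw_uj⟩
  · exact Or.inr (Or.inr ⟨a1 uj_mem, a2 _ uk_mem uw_uk⟩)
  · exact Or.inr (Or.inl ⟨a2 _ ui_mem uw_ui, a1 uk_mem⟩)
  · exact Or.inr (Or.inl ⟨a1 ui_mem, a2 _ uk_mem (inv _ _ uw_ui)⟩)
  · exact Or.inl ⟨a2 _ ui_mem (inv _ _ uw_uj), a1 uj_mem⟩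
  · exact Or.inr (Or.inr ⟨a2 _ uj_mem (inv _ _ uw_uk), a1 uk_mem⟩)

end Cfsg.Agent.PN
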