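import Cfsg.Agent.PN.Rk
import Cfsg.Agent.S0205

set_option autoImplicit false
set_option linter.unusedSectionVars false
set_option linter.unusedVariables false
set_option linter.unusedSimpArgs false

namespace Cfsg.Agent.PN

open Quaternion Matrix Subgroup

variable {F : Type*} [Field F] {ι : Type*} [Fintype ι] [DecidableEq ι]

theorem diag_of_comm_all [NeZero (2 : F)] {g : UG F ι} (h : ∀ c, g * t F c = t F c * g) :
    ∃ f, g = β f := by
  obtain ⟨f, π, rfl⟩ := mono_of_perm fun c => ⟨c, mul_inv_eq_iff_eq_mul.2 (h c)⟩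
  have : π = 1 := Equiv.ext fun c =>
    t_inj (F := F) ((mono_conj_t f π c).symm.trans (mul_inv_eq_iff_eq_mul.2 (h c)))
  exact ⟨f, by rw [this, map_one, mul_one]⟩

theorem row_mul {g : UG F ι} {k : ι} (hg : ∀ b, g.1 k b = if k = b then 1 else 0) (h : UG F ι)
    (b : ι) : (g * h).1 k b = h.1 k b := by
  rw [mul_apply']
  simp only [hg, ite_mul, one_mul, zero_mul, Finset.sum_ite_eq, Finset.mem_univ, if_true]

/-- Matrices whose row `k` is the unit vector. -/
def Row (F : Type*) [Field F] (k : ι) : Subgroup (UG F ι) where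
  carrier := {g | ∀ b, g.1 k b = if k = b then 1 else 0}
  one_mem' := fun b => Matrix.one_apply
  mul_mem' := fun {g h} hg hh b => (row_mul hg h b).trans (hh b)
  inv_mem' := fun {g} hg b => by
    rw [← row_mul hg g⁻¹ b, mul_inv_cancel]
    exact Matrix.one_apply

theorem ins_conj_row (q : U1 F) (s : UG F ι) {k c : ι} (h : k ≠ c) :
    (ins k q * s * (ins k q)⁻¹).1 k c = q * s.1 k c := by
  rw [ins_eq, β_conj_apply, Pi.mulSingle_eq_same, Pi.mulSingle_eq_of_ne h.symm]; simp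

theorem ins_conj_col (q : U1 F) (s : UG F ι) {k c : ι} (h : k ≠ c) :
    (ins c q * s * (ins c q)⁻¹).1 k c = s.1 k c * star (q : ℍ[F]) := by
  rw [ins_eq, β_conj_apply, Pi.mulSingle_eq_same, Pi.mulSingle_eq_of_ne h]; simp

theorem ins_conj_other (q : U1 F) (s : UG F ι) {k a b : ι} (ha : a ≠ k) (hb : b ≠ k) :
    (ins k q * s * (ins k q)⁻¹).1 a b = s.1 a b := by
  rw [ins_eq, β_conj_apply, Pi.mulSingle_eq_of_ne ha, Pi.mulSingle_eq_of_ne hb]; simp

theorem zero_of_pure [NeZero (2 : F)] {a : ℍ[F]}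
    (e2 : ∀ q ∈ Q F, -star a * ((q : ℍ[F]) - star (q : ℍ[F])) * a = 0) : a = 0 := by
  have e3 : ∀ q : ℍ[F], star q = -q → -star a * (q - star q) * a = 0 →
      star a * q * a = 0 := fun q hq h => by
    rw [hq] at h
    refine two_mul_eq_zero (neg_eq_zero.1 ?_)
    rw [← h]; noncomm_ring
  have hi := e3 qi star_qi (e2 ui ui_mem)
  have h0 : normSq a = 0 := by
    have := congrArg normSq hi
    rw [map_mul, map_mul, normSq_star, map_zero, show normSq (qi : ℍ[F]) = 1 from normSq_U1 ui,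
      mul_one, mul_self_eq_zero] at this
    exact this
  rcases prime (by rw [Quaternion.star_mul_self, h0]; rfl) hi (e3 qj star_qj (e2 uj uj_mem))
    (e3 qk star_qk (e2 uk uk_mem)) with h | h
  · exact star_eq_zero.1 h
  · exact h

/-- An element inverted by `t c` that commutes with its conjugates under the `k`-th quaternion
group has zero entry at `(c, k)`. -/
theorem entry_zero [NeZero (2 : F)] {u : UG F ι} {c k : ι} (hk : k ≠ c)
    (hi : t F c * u * (t F c)⁻¹ = u⁻¹)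
    (hc : ∀ q ∈ Q F, u * (ins k q * u * (ins k q)⁻¹) = ins k q * u * (ins k q)⁻¹ * u) :
    u.1 k c = 0 := by
  have e1 : u.1 c k = -star (u.1 k c) := by
    have : (t F c * u * (t F c)⁻¹).1 c k = (u⁻¹).1 c k := by rw [hi]
    rw [t, ins_conj_row _ _ hk.symm, inv_apply] at this
    rw [← this]; simp [coe_neg_U1]
  have e2 : ∀ q ∈ Q F, u.1 c k * ((q : ℍ[F]) - star (q : ℍ[F])) * u.1 k c = 0 := fun q hq => by
    have r1 := ins_conj_row q u hk
    have r2 := ins_conj_col q u hk.symm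
    have r3 : ∀ x ∈ Finset.univ.erase k, u.1 c x * (ins k q * u * (ins k q)⁻¹).1 x c =
        (ins k q * u * (ins k q)⁻¹).1 c x * u.1 x c := fun x hx => by
      rw [ins_conj_other _ _ (Finset.ne_of_mem_erase hx) hk.symm,
        ins_conj_other _ _ hk.symm (Finset.ne_of_mem_erase hx)]
    have r4 := hc q hq
    generalize ins k q * u * (ins k q)⁻¹ = v at r1 r2 r3 r4
    have this : ∑ x, u.1 c x * v.1 x c = ∑ x, v.1 c x * u.1 x c := by
      rw [← mul_apply', ← mul_apply', r4]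
    rw [← Finset.add_sum_erase _ _ (Finset.mem_univ k), Finset.sum_congr rfl r3,
      ← Finset.add_sum_erase Finset.univ _ (Finset.mem_univ k), add_left_inj, r1, r2] at this
    rw [mul_sub, sub_mul, mul_assoc, this, sub_self]
  rw [e1] at e2
  exact zero_of_pure e2

theorem odd_step [Finite F] [NeZero (2 : F)] {O : Subgroup (UG F ι)} (hO : Odd (Nat.card O))
    (hn : ∀ a : ι, ∀ q ∈ Q F, ins a q ∈ normalizer (O : Set (UG F ι)))
    (hD : ∀ k, ∀ x ∈ ⁅O, O⁆, x * t F k = t F k * x) (c : ι) :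
    ∀ x ∈ O, x * t F c = t F c * x := by
  set τ := t F c with hτ
  have τ2 : τ * τ = 1 := t_sq c
  have τi : τ⁻¹ = τ := t_inv c
  have pw : ∀ x ∈ O, x ^ Nat.card O = 1 := fun x hx =>
    congrArg Subtype.val (pow_card_eq_one' (G := O) (x := ⟨x, hx⟩))
  set O1 := closure {u | ∃ x ∈ O, u = x * τ * x⁻¹ * τ} with hO1
  have gen : ∀ x ∈ O, x * τ * x⁻¹ * τ ∈ O1 := fun x hx => subset_closure ⟨x, hx, rfl⟩
  have inv : ∀ x : UG F ι, τ * (x * τ * x⁻¹ * τ) * τ⁻¹ = (x * τ * x⁻¹ * τ)⁻¹ := fun x => by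
    simp only [_root_.mul_inv_rev, τi, inv_inv, mul_assoc, τ2, mul_one]
  have le1 : O1 ≤ O := (closure_le _).2 (by
    rintro _ ⟨x, hx, rfl⟩
    have := mul_mem hx ((mem_normalizer_iff.1 (hn c _ neg_one_mem) _).1 (inv_mem hx))
    rwa [show (ins c (-1) : UG F ι) = τ from rfl, τi, ← mul_assoc, ← mul_assoc] at this)
  have nrm : ∀ a : ι, ∀ q ∈ Q F, ∀ u ∈ O1, ins a q * u * (ins a q)⁻¹ ∈ O1 := fun a q hq =>
    (closure_le (O1.comap (MulAut.conj (ins a q : UG F ι)).toMonoidHom)).2 (by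
      rintro _ ⟨x, hx, rfl⟩
      have e : ins a q * τ * (ins a q)⁻¹ = τ := mul_inv_eq_iff_eq_mul.2 (β_comm_t _ c)
      show ins a q * (x * τ * x⁻¹ * τ) * (ins a q)⁻¹ ∈ O1
      rw [← conj_mul, ← conj_mul, ← conj_mul, e, ← conj_inv]
      exact gen _ ((mem_normalizer_iff.1 (hn a q hq) _).1 hx))
  have cen : ∀ z ∈ ⁅O, O⁆, ∀ s ∈ O1, s * z = z * s := fun z hz s hs =>
    mem_centralizer_singleton_iff.1 ((closure_le (centralizer {z})).2 (by
      rintro _ ⟨x, hx, rfl⟩
      refine mul_mem (mem_centralizer_singleton_iff.2 ?_)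
        (mem_centralizer_singleton_iff.2 (hD c z hz).symm)
      have : _ * τ = τ * _ := hD c _ (H85.conj_mem_comm (le_normalizer (inv_mem hx)) hz)
      calc x * τ * x⁻¹ * z = x * (τ * (x⁻¹ * z * x⁻¹⁻¹)) * x⁻¹ := by group
        _ = z * (x * τ * x⁻¹) := by rw [← this]; group) hs)
  suffices h : ∀ s ∈ O1, ∀ k, k ≠ c → s.1 k c = 0 by
    intro x hx
    have h1 : x * τ * x⁻¹ * τ * τ = τ * (x * τ * x⁻¹ * τ) := comm_of_diag fun k hk =>
      ⟨h _ (gen x hx) k hk, star_eq_zero.1 (h _ (inv_mem (gen x hx)) k hk)⟩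
    have h2 := inv x
    rw [← h1, mul_inv_cancel_right, eq_inv_iff_mul_eq_one, ← pow_two] at h2
    have h3 := pow_gcd_eq_one.2 ⟨h2, pw _ (le1 (gen x hx))⟩
    rw [(Nat.coprime_two_left.2 hO).gcd_eq_one, pow_one, mul_eq_one_iff_eq_inv, τi] at h3
    exact mul_inv_eq_iff_eq_mul.1 h3
  by_contra hcon
  push Not at hcon
  obtain ⟨s0, hs0, k0, hk0, h0⟩ := hcon
  have row : ∀ k, k ≠ c → (∀ s ∈ O1, s.1 k c = 0) → O1 ≤ Row F k := fun k hk h =>
    (closure_le _).2 (by
      rintro _ ⟨x, hx, rfl⟩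
      obtain ⟨m, hm⟩ := hO
      have h1 := pw _ (le1 (gen x hx))
      set u := x * τ * x⁻¹ * τ with hu
      have h2 : x * τ * x⁻¹ = u ^ (m + 1) * τ * (u ^ (m + 1))⁻¹ := by
        have h3 : τ * (u ^ (m + 1))⁻¹ * τ⁻¹ = u ^ (m + 1) := by
          rw [← conj_inv, ← conj_pow, inv x, inv_pow, inv_inv]
        rw [mul_assoc (u ^ _), mul_inv_eq_iff_eq_mul.1 h3, ← mul_assoc, ← pow_add,
          show m + 1 + (m + 1) = Nat.card O + 1 by omega, pow_succ, h1, one_mul, hu, mul_assoc _ τ τ,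
          τ2, mul_one]
      refine mul_mem (fun b => ?_) fun b => ?_
      · rw [h2, conj_t_apply, h _ (pow_mem (gen x hx) _)]; simp
      · rw [t_apply, if_neg hk])
  have triv : ∀ z ∈ ⁅O, O⁆, z ∈ O1 → z = 1 := fun z hz hz1 => by
    obtain ⟨ζ, rfl⟩ := diag_of_comm_all fun k => hD k z hz
    have rel : ∀ ζ' : ι → U1 F, β ζ' ∈ ⁅O, O⁆ → ∀ s ∈ O1, ∀ k,
        s.1 k c * ζ' c = ζ' k * s.1 k c := fun ζ' h s hs k => by
      rw [← mul_β_apply, ← β_mul_apply, cen _ h s hs]
    have one : ∀ k, k ≠ c → ∀ s ∈ O1, s.1 k c ≠ 0 → ζ k = 1 := fun k hk s hs h => by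
      have cm : ∀ q ∈ Q F, q * ζ k = ζ k * q := fun q hq => by
        have h1 := H85.conj_mem_comm (hn k q hq) hz
        rw [ins_eq, ← map_inv, ← map_mul, ← map_mul] at h1
        have := prime' (a := ((q * ζ k * q⁻¹ : U1 F) : ℍ[F]) - (ζ k : ℍ[F])) (b := s.1 k c) fun q' hq' => by
          have r1 := rel _ h1 _ (nrm k q' hq' s hs) k
          have r2 := rel _ hz _ (nrm k q' hq' s hs) k
          simp only [Pi.mul_apply, Pi.inv_apply, Pi.mulSingle_eq_same,
            Pi.mulSingle_eq_of_ne hk.symm, one_mul, inv_one, mul_one] at r1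
          rw [ins_conj_row _ _ hk] at r1 r2
          rw [mul_assoc, sub_mul, ← r1, ← r2, sub_self]
        exact mul_inv_eq_iff_eq_mul.1 (Subtype.ext (sub_eq_zero.1 (this.resolve_right h)))
      refine eq_one_of_odd (mem_Z_of_comm (cm _ ui_mem) (cm _ uj_mem)) hO ?_
      have := pw _ (le1 hz1)
      rw [← map_pow] at this
      exact congrFun ((wd F ι).β_inj (this.trans (map_one _).symm)) k
    rw [show ζ = 1 from funext fun k => ?_, map_one]
    by_cases hk : k = c
    · subst hk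
      have := prime' (a := s0.1 k0 k) (b := (ζ k : ℍ[F]) - 1) fun q hq => by
        have r := rel _ hz _ (nrm k _ (inv_mem hq) s0 hs0) k0
        rw [ins_conj_col _ _ hk0, one k0 hk0 s0 hs0 h0, coe_inv_U1, star_star] at r
        rw [mul_sub, r]; simp
      exact Subtype.ext (sub_eq_zero.1 (this.resolve_left h0))
    by_cases h : ∀ s ∈ O1, s.1 k c = 0
    · have := row k hk h hz1 k
      rw [β_apply, if_pos rfl, if_pos rfl] at this
      exact Subtype.ext this
    · push Not at h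
      obtain ⟨s, hs, h⟩ := h
      exact one k hk s hs h
  have ab : ∀ u ∈ O1, ∀ v ∈ O1, u * v = v * u := fun u hu v hv =>
    commutatorElement_eq_one_iff_mul_comm.1 (triv _ (commutator_mem_commutator (le1 hu) (le1 hv))
      (mul_mem (mul_mem (mul_mem hu hv) (inv_mem hu)) (inv_mem hv)))
  have inv1 : ∀ u ∈ O1, τ * u * τ⁻¹ = u⁻¹ := fun u hu => by
    induction hu using closure_induction with
    | mem u hu => obtain ⟨x, hx, rfl⟩ := hu; exact inv x
    | one => simp [τ2]
    | mul u v hu hv h1 h2 => rw [← conj_mul, h1, h2, ab u hu v hv, _root_.mul_inv_rev]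
    | inv u hu h1 => rw [← conj_inv, h1]
  exact h0 (entry_zero hk0 (inv1 s0 hs0) fun q hq => ab _ hs0 _ (nrm k0 q hq s0 hs0))

theorem odd_cent [Finite F] [NeZero (2 : F)] {O : Subgroup (UG F ι)} (hO : Odd (Nat.card O))
    (hn : ∀ a : ι, ∀ q ∈ Q F, ins a q ∈ normalizer (O : Set (UG F ι))) (c : ι) :
    ∀ x ∈ O, x * t F c = t F c * x := by
  induction' hk : Nat.card O using Nat.strong_induction_on with n ih generalizing O c
  by_cases h : O = ⊥
  · subst h
    intro x hx
    rw [mem_bot.1 hx]; simp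
  have hle : ⁅O, O⁆ ≤ O := commutator_le_self O
  refine odd_step hO hn (fun k => ih _ ?_ (hO.of_dvd_nat (card_dvd_of_le hle))
    (fun a q hq => mem_normalizer_fintype fun x hx => H85.conj_mem_comm (hn a q hq) hx) k rfl) c
  have := S0205.result hO
  have : Nontrivial O := (nontrivial_iff_ne_bot O).2 h
  have h1 := Group.IsSolvable.commutator_lt_top_of_nontrivial (G := O)
  rw [← hk, ← map_subtype_commutator, card_map_of_injective O.subtype_injective, ← card_top (G := O)]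
  exact Set.Finite.card_lt_card (Set.toFinite _) (SetLike.coe_ssubset_coe.2 h1)

end Cfsg.Agent.PN
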