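import Cfsg.Agent.PN.Rk
import Cfsg.Agent.H49.SylowOf
import Cfsg.Agent.H82.GUtil

set_option autoImplicit false
set_option linter.unusedSectionVars false
set_option linter.unusedVariables false
set_option linter.unusedSimpArgs false

namespace Cfsg.Agent.PN

open Quaternion Matrix Subgroup

variable {F : Type*} [Field F] {ι : Type*} [Fintype ι] [DecidableEq ι]

theorem t_ne_one [NeZero (2 : F)] (c : ι) : t F c ≠ 1 := fun e1 => by
  have := congrArg (fun x : UG F ι => x.1 c c) e1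
  simp only [t_apply, if_true, coe_one_UG, Matrix.one_apply_eq] at this
  exact neg_one_ne (F := F) (Subtype.ext this)

theorem A_comm {x z : UG F ι} (hx : x ∈ A F ι) (hz : z ∈ A F ι) : x * z = z * x := by
  have h1 := A_sq (mul_mem hx hz)
  rw [← inv_eq_of_mul_eq_one_right h1, _root_.mul_inv_rev, inv_eq_of_mul_eq_one_right (A_sq hx),
    inv_eq_of_mul_eq_one_right (A_sq hz)]

theorem mem_A_of_comm [NeZero (2 : F)] {g : UG F ι} (h : ∀ c, g * t F c = t F c * g)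
    (h2 : g * g = 1) : g ∈ A F ι := by
  obtain ⟨f, π, rfl⟩ := mono_of_perm fun c => ⟨c, mul_inv_eq_iff_eq_mul.2 (h c)⟩
  have : π = 1 := Equiv.ext fun c =>
    t_inj (F := F) ((mono_conj_t f π c).symm.trans (mul_inv_eq_iff_eq_mul.2 (h c)))
  subst this
  exact mem_A.2 ⟨f, fun a => mem_Z_of_sq ((mono_sq h2).2 a), by rw [map_one, mul_one]⟩

theorem swap_poly {f : ι → U1 F} {π : Equiv.Perm ι} {a : ι} (ha : π a ≠ a) (e1 : π (π a) = a)
    (e2 : f a * f (π a) = 1) :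
    (1 - (ins a (f a) * σ (Equiv.swap a (π a)) * (ins a (f a) : UG F ι)⁻¹).1) +
      (1 - (ins a (f a) * σ (Equiv.swap a (π a)) * (ins a (f a) : UG F ι)⁻¹).1) =
      (1 - (β f * σ π : UG F ι).1) * (1 - (t F a * t F (π a)).1) := by
  have e3 : star (f a : ℍ[F]) = f (π a) := congrArg Subtype.val (inv_eq_of_mul_eq_one_right e2)
  rw [mul_sub, mul_one, sub_mul, one_mul, ← coe_mul_UG, t, t, ins_eq, ins_eq, ins_eq, ← map_mul]
  ext1 u v
  simp only [Matrix.add_apply, Matrix.sub_apply, β_conj_apply, mul_β_apply, mono_apply, β_apply,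
    σ_apply, Matrix.one_apply, Pi.mul_apply]
  by_cases hv : v = a
  · subst hv
    by_cases hu : u = v
    · subst hu; simp [ha, ha.symm, coe_neg_U1]
    by_cases hu' : u = π v
    · subst hu'; simp [ha, ha.symm, coe_neg_U1, e3, Pi.mulSingle_eq_of_ne]; abel
    · simp [hu, hu']
  by_cases hv' : v = π a
  · subst hv'
    by_cases hu : u = a
    · subst hu; simp [ha, ha.symm, coe_neg_U1, e1, Pi.mulSingle_eq_of_ne]; abel
    by_cases hu' : u = π a
    · subst hu'; simp [ha, ha.symm, coe_neg_U1, e1, Pi.mulSingle_eq_of_ne]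
    · simp [hu, hu', e1]
  rw [Equiv.swap_apply_of_ne_of_ne hv hv', Pi.mulSingle_eq_of_ne hv, Pi.mulSingle_eq_of_ne hv,
    Pi.mulSingle_eq_of_ne hv']
  by_cases hu : u = v
  · subst hu; simp [Pi.mulSingle_eq_of_ne hv, Pi.mulSingle_eq_of_ne hv']
  · simp [hu]

theorem comm_of_poly [NeZero (2 : F)] {s x z u : UG F ι}
    (h : (1 - s.1) + (1 - s.1) = (1 - x.1) * (1 - z.1)) (hx : u * x = x * u) (hz : u * z = z * u) :
    u * s = s * u := by
  have cx : Commute u.1 x.1 := congrArg Subtype.val hx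
  have cz : Commute u.1 z.1 := congrArg Subtype.val hz
  have c := (((Commute.one_right _).sub_right cx).mul_right ((Commute.one_right _).sub_right cz)).eq
  rw [← h] at c
  have c2 : (u.1 * s.1 - s.1 * u.1) + (u.1 * s.1 - s.1 * u.1) = 0 := by
    rw [← sub_eq_zero] at c
    rw [← neg_eq_zero, ← c]
    noncomm_ring
  refine ext_UG fun a b => sub_eq_zero.1 (two_mul_eq_zero ?_)
  rw [two_mul]
  exact congrFun (congrFun c2 a) b

theorem diag_of_quat [Finite F] [NeZero (2 : F)] (Δ : U1 F →* UG F ι)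
    (hm : ∀ q ∈ Q F, ∃ f π, Δ q = β f * σ π) (hr : Rk 2 (1 - (Δ (-1)).1)) : Δ (-1) ∈ A F ι := by
  choose! φ ρ hρ using hm
  have mul : ∀ q ∈ Q F, ∀ q' ∈ Q F, ρ (q * q') = ρ q * ρ q' := fun q hq q' hq' =>
    (mono_inj (by rw [← hρ _ (mul_mem hq hq'), map_mul, hρ q hq, hρ q' hq', mono_mul])).2
  have h2 : β (φ (-1)) * σ (ρ (-1)) * (β (φ (-1)) * σ (ρ (-1))) = (1 : UG F ι) := by
    rw [← hρ _ neg_one_mem, ← map_mul]; simp
  by_cases h1 : ρ (-1) = 1
  · rw [hρ _ neg_one_mem, h1, map_one, mul_one]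
    exact mem_A.2 ⟨_, fun a => mem_Z_of_sq (by simpa [h1] using (mono_sq h2).2 a), rfl⟩
  obtain ⟨c, hc⟩ : ∃ c, ρ (-1) c ≠ c := by
    by_contra hc
    push Not at hc
    exact h1 (Equiv.ext hc)
  have free : ∀ q ∈ Q F, ∀ q' ∈ Q F, ρ q c = ρ q' c → q = q' := fun q hq q' hq' e => by
    have hu := mul_mem (inv_mem hq') hq
    have e1 : ρ (q'⁻¹ * q) c = c := (ρ q').injective (by
      rw [← Equiv.Perm.mul_apply, ← mul _ hq' _ hu, mul_inv_cancel_left, e])
    rcases Q_sq hu with h | h | h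
    · exact (inv_mul_eq_one.1 h).symm
    · rw [h] at e1; exact absurd e1 hc
    · exact absurd (by rw [← h, mul _ hu _ hu, Equiv.Perm.mul_apply, e1, e1]) hc
  let e : Fin 3 → U1 F := ![1, ui, uj]
  have he : ∀ i, e i ∈ Q F := fun i => by
    fin_cases i
    exacts [one_mem _, ui_mem, uj_mem]
  have n2 : (1 : F) ≠ -1 := fun h => two_ne (F := F) (by linear_combination h)
  have := hr.le (fun i => ρ (e i) c) (fun _ => 1) (fun _ => isUnit_one) fun i j => by
    rw [hρ _ neg_one_mem, Matrix.sub_apply, mono_apply, Matrix.one_apply, if_neg (c := _ = ρ (-1) _),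
      sub_zero]
    · refine if_congr ⟨fun h => ?_, fun h => by rw [h]⟩ rfl rfl
      have := congrArg Subtype.val (free _ (he i) _ (he j) h)
      fin_cases i <;> fin_cases j <;> simp [e, Quaternion.ext_iff] at this ⊢
    · rw [← Equiv.Perm.mul_apply, ← mul _ neg_one_mem _ (he j)]
      intro h
      have := congrArg Subtype.val (free _ (he i) _ (mul_mem neg_one_mem (he j)) h)
      fin_cases i <;> fin_cases j <;> simp [e, Quaternion.ext_iff, coe_neg_U1, n2] at this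
  omega

theorem strongly_closed [Finite F] [NeZero (2 : F)] {P : Subgroup (U1 F)} (hQ : Q F ≤ P)
    {T : Subgroup (Equiv.Perm ι)} {K : Subgroup (UG F ι)}
    (hS : H49.IsSylowOf 2 ((wd F ι).W P T) K) (ns : NoSw K) :
    ∀ x ∈ A F ι, ∀ g ∈ K, g * x * g⁻¹ ∈ (wd F ι).W P T → g * x * g⁻¹ ∈ A F ι := by
  have hWK : (wd F ι).W P T ≤ K := hS.1
  have hi : ∀ a : ι, ∀ p ∈ P, ins a p ∈ (wd F ι).W P T := fun a p hp => by
    rw [ins_eq]; exact (wd F ι).single_mem_W T a hp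
  have ns' : ∀ g ∈ K, ∀ c a b : ι, ∀ p ∈ P, a ≠ b →
      g * t F c * g⁻¹ ≠ ins a p * σ (Equiv.swap a b) * (ins a p)⁻¹ := fun g hg c a b p hp hab e =>
    ns ((ins a p)⁻¹ * g) (mul_mem (inv_mem (hWK (hi a p hp))) hg) c a b hab (by
      rw [show (ins a p)⁻¹ * g * t F c * ((ins a p)⁻¹ * g)⁻¹ =
        (ins a p)⁻¹ * (g * t F c * g⁻¹) * ins a p by group, e]; group)
  have wc : ∀ g ∈ K, ∀ c, g * t F c * g⁻¹ ∈ (wd F ι).W P T → g * t F c * g⁻¹ ∈ A F ι := by
    intro g hg c h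
    obtain ⟨f, hf, π, -, e⟩ := (wd F ι).mem_W.1 h
    have e' : β f * σ π = g * t F c * g⁻¹ := e
    rcases mono_rk (f := f) (π := π) (by rw [e', conj_mul, t_sq]; simp)
      (by rw [e']; simpa using t_ne_one c) (e' ▸ (rk_t c).conj g) with ⟨b, hb⟩ | ⟨a, b, hab, hb⟩
    · rw [← e', hb]; exact t_mem_A b
    · exact absurd (e'.symm.trans hb) (ns' g hg c a b _ (hf a) hab)
  intro x0 hx0 g hg h
  obtain ⟨f, hf, π, -, e⟩ := (wd F ι).mem_W.1 h
  have e' : β f * σ π = g * x0 * g⁻¹ := e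
  obtain ⟨e1, e2⟩ := mono_sq (f := f) (π := π) (by rw [e', conj_mul, A_sq hx0]; simp)
  by_cases hπ : π = 1
  · subst hπ
    rw [← e', map_one, mul_one]
    exact mem_A.2 ⟨f, fun a => mem_Z_of_sq (e2 a), rfl⟩
  exfalso
  obtain ⟨a, ha⟩ : ∃ a, π a ≠ a := by
    by_contra hc
    push Not at hc
    exact hπ (Equiv.ext hc)
  let Δ : U1 F →* UG F ι := MonoidHom.mk' (fun q => ins a q * ins (π a) ((f a)⁻¹ * q * f a))
    fun q q' => by
      rw [show (f a)⁻¹ * (q * q') * f a = (f a)⁻¹ * q * f a * ((f a)⁻¹ * q' * f a) by group, map_mul,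
        map_mul, mul_assoc (ins a q), ← mul_assoc (ins a q'), (wd F ι).ins_comm ha.symm,
        mul_assoc ((wd F ι).ins _ _), ← mul_assoc (ins a q)]
  have hΔ : ∀ q, Δ q = ins a q * ins (π a) ((f a)⁻¹ * q * f a) := fun _ => rfl
  have hz : Δ (-1) = t F a * t F (π a) := by rw [hΔ]; simp [t]
  have hD1 : (Q F).map Δ ≤ K ⊓ centralizer {β f * σ π} := by
    rintro _ ⟨q, hq, rfl⟩
    refine ⟨hWK (mul_mem (hi _ _ (hQ hq))
      (hi _ _ (mul_mem (mul_mem (inv_mem (hf a)) (hQ hq)) (hf a)))),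
      mem_centralizer_singleton_iff.2 (mul_inv_eq_iff_eq_mul.1 ?_).symm⟩
    rw [hΔ, ← conj_mul, mono_conj_ins, mono_conj_ins, e1, (wd F ι).ins_comm ha,
      ← inv_eq_of_mul_eq_one_right (e2 a)]
    congr 2 <;> group
  have hA1 : H49.cj g (A F ι) ≤ K ⊓ centralizer {β f * σ π} := by
    intro x hx
    obtain ⟨x1, hx1, rfl⟩ := H49.mem_cj'.1 hx
    refine ⟨K.mul_mem (K.mul_mem hg (hWK (A_le_W hQ T hx1))) (K.inv_mem hg),
      mem_centralizer_singleton_iff.2 ?_⟩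
    rw [e', conj_mul, conj_mul, A_comm hx1 hx0]
  have pA : IsPGroup 2 (A F ι) := fun x => ⟨1, Subtype.ext ((pow_two x.1).trans (A_sq x.2))⟩
  obtain ⟨R, hR, hDR⟩ := H82G.exists_syl_ge (Q_pg.map Δ) hD1
  obtain ⟨c, hc, hcR⟩ := H49.sylowOf_subJ hR hA1 (H82G.pi2 (pA.map _))
  obtain ⟨k, hk, hkR⟩ := H49.sylowOf_subJ hS (hR.1.trans inf_le_left) (H82G.pi2 (H82G.syl_pg hR))
  have hx : k * (β f * σ π) * k⁻¹ ∈ A F ι := by
    have h1 : A F ι ≤ (A F ι).comap (MulAut.conj (k * c * g)).toMonoidHom := A_le fun b =>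
      wc _ (mul_mem (mul_mem hk hc.1) hg) b (by
        have := hkR (H49.conj_mem_cj.2 (hcR (H49.conj_mem_cj.2 (H49.conj_mem_cj.2 (t_mem_A b)))))
        simpa [mul_assoc] using this)
    have h2 : k * c * g * x0 * (k * c * g)⁻¹ ∈ A F ι := h1 hx0
    rwa [show k * c * g * x0 * (k * c * g)⁻¹ = k * (c * (g * x0 * g⁻¹) * c⁻¹) * k⁻¹ by group, ← e',
      mem_centralizer_singleton_iff.1 hc.2, mul_inv_cancel_right] at h2
  have hz' : k * (t F a * t F (π a)) * k⁻¹ ∈ A F ι := by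
    rw [← hz]
    refine diag_of_quat ((MulAut.conj k).toMonoidHom.comp Δ) (fun q hq => ?_) ?_
    · obtain ⟨f', -, π', -, e⟩ := (wd F ι).mem_W.1 (hkR (H49.conj_mem_cj.2 (hDR ⟨q, hq, rfl⟩)))
      exact ⟨f', π', e.symm⟩
    · show Rk 2 (1 - (k * Δ (-1) * k⁻¹).1)
      rw [hz]
      exact (rk_tt _ _).conj k
  set s : UG F ι := ins a (f a) * σ (Equiv.swap a (π a)) * (ins a (f a))⁻¹ with hs
  have pull : ∀ u x : UG F ι, u * (k * x * k⁻¹) = k * x * k⁻¹ * u ↔
      k⁻¹ * u * k * x = x * (k⁻¹ * u * k) := fun u x => by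
    rw [← mul_left_inj k, ← mul_right_inj k⁻¹]; simp [mul_assoc]
  have hs1 : k * s * k⁻¹ ∈ A F ι := by
    refine mem_A_of_comm (fun b => ((pull _ _).2 ?_).symm) ?_
    · exact comm_of_poly (swap_poly ha (e1 a) (e2 a)) ((pull _ _).1 (A_comm (t_mem_A b) hx))
        ((pull _ _).1 (A_comm (t_mem_A b) hz'))
    · rw [conj_mul, hs, conj_mul, ← map_mul, Equiv.swap_mul_self]; simp
  obtain ⟨b, hb⟩ := eq_t_of_rk hs1 (fun h => by
    have h1 : σ (Equiv.swap a (π a)) = (1 : UG F ι) := by simpa [hs] using h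
    exact ha.symm (Equiv.swap_eq_one_iff.1 ((wd F ι).σ_inj (h1.trans (map_one _).symm))))
    (((rk_swap _ _).conj _).conj k)
  exact ns' k⁻¹ (inv_mem hk) b a (π a) _ (hf a) ha.symm (by rw [← hb, ← hs]; group)

end Cfsg.Agent.PN
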