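import Cfsg.Agent.PN.Syl
import Cfsg.Agent.PN.Sw
import Cfsg.Agent.PN.Odd
import Cfsg.Agent.PN.L2
import Cfsg.Agent.PN.SC
import Cfsg.Agent.PN.Gold
import Cfsg.Agent.H64.SymSylow
import Cfsg.Agent.H66.PnGen

set_option autoImplicit false
set_option linter.unusedSectionVars false
set_option linter.unusedVariables false
set_option linter.unusedSimpArgs false

namespace Cfsg.Agent.PN

open Quaternion Matrix Subgroup Cfsg Cfsg.Agent.H49

/-- The property of a Sylow 2-subgroup that passes to direct products. -/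
def PP {G : Type*} [Group G] (S : Subgroup G) : Prop :=
  ∀ g ∈ normalizer (S : Set G), ∀ H : Subgroup G, S ≤ H →
    (∃ s ∈ S, ∀ h ∈ H, s⁻¹ * g * h * (s⁻¹ * g)⁻¹ * h⁻¹ ∈ S) ∨
    ∀ K : Subgroup G, S ≤ K → H ≤ normalizer (K : Set G) →
      (∀ h ∈ H, g * h * g⁻¹ ∈ normalizer (K : Set G)) → g ∈ K

theorem single_conj {I : Type*} [DecidableEq I] {G : I → Type*} [∀ i, Group (G i)] (k : ∀ i, G i)
    (i : I) (c : G i) : k * Pi.mulSingle i c * k⁻¹ = Pi.mulSingle i (k i * c * (k i)⁻¹) := by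
  funext j
  by_cases h : j = i
  · subst h; simp
  · simp [Pi.mulSingle_eq_of_ne h]

theorem pn_pi {I : Type*} [Fintype I] [DecidableEq I] {G : I → Type*} [∀ i, Group (G i)]
    [∀ i, Finite (G i)] (S : ∀ i, Sylow 2 (G i)) (h : ∀ i, PP (S i : Subgroup (G i))) :
    H66.Pn.PN (∀ i, G i) := by
  let S0 : Subgroup (∀ i, G i) := Subgroup.pi Set.univ fun i => (S i : Subgroup (G i))
  have m0 : ∀ {x : ∀ i, G i}, x ∈ S0 ↔ ∀ i, x i ∈ (S i : Subgroup (G i)) :=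
    ⟨fun hx i => hx i (Set.mem_univ _), fun hx i _ => hx i⟩
  have m1 : ∀ i, ∀ s ∈ (S i : Subgroup (G i)), Pi.mulSingle i s ∈ S0 := fun i s hs => m0.2 fun j => by
    by_cases e : j = i
    · subst e; simpa using hs
    · rw [Pi.mulSingle_eq_of_ne e]; exact one_mem _
  have p0 : IsPGroup 2 S0 := fun x => by
    choose k hk using fun i => (S i).isPGroup' ⟨x.1 i, m0.1 x.2 i⟩
    refine ⟨∑ i, k i, Subtype.ext (funext fun i => ?_)⟩
    have e : x.1 i ^ 2 ^ k i = 1 := congrArg Subtype.val (hk i)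
    obtain ⟨c, hc⟩ : 2 ^ k i ∣ 2 ^ ∑ i, k i :=
      pow_dvd_pow 2 (Finset.single_le_sum (fun _ _ => Nat.zero_le _) (Finset.mem_univ i))
    show x.1 i ^ 2 ^ ∑ i, k i = 1
    rw [hc, pow_mul, e, one_pow]
  let P : Sylow 2 (∀ i, G i) := ⟨S0, p0, fun {R} hR hle => le_antisymm (fun x hx => m0.2 fun i => by
    have := (S i).is_maximal' (hR.map (Pi.evalMonoidHom G i))
      fun s hs => ⟨_, hle (m1 i s hs), by simp⟩
    exact this.le ⟨x, hx, rfl⟩) hle⟩
  refine H66.Pn.PN.of_one P fun H hH => ?_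
  refine (S3820.result S0 H hH (H66.Pn.sylow_pronormal P)).2 fun g hg => ?_
  set K := H ⊔ H.map (MulAut.conj g).toMonoidHom with hK
  have hSK : S0 ≤ K := le_trans hH le_sup_left
  have nK : ∀ k ∈ K, ∀ i, k i ∈ normalizer
      (K.comap (MonoidHom.mulSingle G i) : Set (G i)) := fun k hk i =>
    mem_normalizer_fintype fun c hc => by
      have : k * Pi.mulSingle i c * k⁻¹ ∈ K := mul_mem (mul_mem hk hc) (inv_mem hk)
      rwa [single_conj] at this
  have key : ∀ i, ∃ x : G i, Pi.mulSingle i x ∈ K ∧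
      ∀ u ∈ H, x⁻¹ * g i * u i * (x⁻¹ * g i)⁻¹ * (u i)⁻¹ ∈ (S i : Subgroup (G i)) := fun i => by
    have hgi : g i ∈ normalizer ((S i : Subgroup (G i)) : Set (G i)) :=
      mem_normalizer_fintype fun s hs => by
        have := m0.1 ((mem_normalizer_iff.1 hg _).1 (m1 i s hs)) i
        rwa [single_conj, Pi.mulSingle_eq_same] at this
    rcases h i (g i) hgi (H.map (Pi.evalMonoidHom G i))
      (fun s hs => ⟨_, hH (m1 i s hs), by simp⟩) with ⟨s, hs, h1⟩ | h1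
    · exact ⟨s, hSK (m1 i s hs), fun u hu => h1 _ ⟨u, hu, rfl⟩⟩
    · refine ⟨g i, h1 (K.comap (MonoidHom.mulSingle G i)) (fun s hs => hSK (m1 i s hs)) ?_ ?_,
        fun u hu => by simp⟩
      · rintro _ ⟨u, hu, rfl⟩
        exact nK u (mem_sup_left hu) i
      · rintro _ ⟨u, hu, rfl⟩
        exact nK (g * u * g⁻¹) (mem_sup_right ⟨u, hu, rfl⟩) i
  choose x hx using key
  refine ⟨x, Subgroup.pi_mem_of_mulSingle_mem x fun i => (hx i).1,
    H84.map_conj_eq_map_conj_iff.2 (mem_normalizer_fintype fun u hu => ?_)⟩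
  have : x⁻¹ * g * u * (x⁻¹ * g)⁻¹ * u⁻¹ ∈ H := hH (m0.2 fun i => (hx i).2 u hu)
  simpa using mul_mem this hu

variable {F : Type*} [Field F] {ι : Type*} [Fintype ι] [DecidableEq ι]

theorem β_mem_W {P : Subgroup (U1 F)} {T : Subgroup (Equiv.Perm ι)} {f : ι → U1 F}
    (h : β f ∈ (wd F ι).W P T) (a : ι) : f a ∈ P := by
  obtain ⟨f', hf', τ, -, e⟩ := (wd F ι).mem_W.1 h
  have := (mono_inj (f := f') (h := f) (π := τ) (ρ := 1) (by rw [map_one, mul_one]; exact e)).1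
  exact this ▸ hf' a

theorem ins_mem_W {P : Subgroup (U1 F)} {T : Subgroup (Equiv.Perm ι)} (a : ι) {p : U1 F}
    (hp : p ∈ P) : ins a p ∈ (wd F ι).W P T := by
  rw [ins_eq]; exact (wd F ι).single_mem_W T a hp

theorem t_pair [NeZero (2 : F)] {a b c d : ι} (hab : a ≠ b) (h : t F a * t F b = t F c * t F d) :
    c = a ∨ c = b := by
  by_contra hc
  push Not at hc
  have e : ∀ x, Pi.mulSingle (M := fun _ => U1 F) a (-1) x * Pi.mulSingle (M := fun _ => U1 F) b (-1) x =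
      Pi.mulSingle (M := fun _ => U1 F) c (-1) x * Pi.mulSingle (M := fun _ => U1 F) d (-1) x := by
    intro x
    simp only [t, ins_eq, ← map_mul] at h
    exact congrFun ((wd F ι).β_inj h) x
  have e1 := e c
  have e2 := e a
  rw [Pi.mulSingle_eq_of_ne hc.1, Pi.mulSingle_eq_of_ne hc.2, Pi.mulSingle_eq_same] at e1
  rw [Pi.mulSingle_eq_of_ne hab, Pi.mulSingle_eq_of_ne hc.1.symm, Pi.mulSingle_eq_same] at e2
  by_cases hd : c = d
  · subst hd
    rw [Pi.mulSingle_eq_of_ne hc.1.symm] at e2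
    exact neg_one_ne (by simpa using e2)
  · rw [Pi.mulSingle_eq_of_ne hd] at e1
    exact neg_one_ne (by simpa using e1.symm)

section

variable [Finite F] [NeZero (2 : F)] {P : Sylow 2 (U1 F)} (hQ : Q F ≤ P)
  {T : Sylow 2 (Equiv.Perm ι)} (tr : ∀ a b, ∃ τ ∈ (T : Subgroup (Equiv.Perm ι)), τ a = b)
  {S : Sylow 2 (UG F ι)} (hS : (S : Subgroup (UG F ι)) = (wd F ι).W P T)
include hQ tr hS

theorem mono_of_not_mem {K0 : Subgroup (UG F ι)} (h0 : (S : Subgroup (UG F ι)) ≤ K0)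
    (hy : y F ι ∉ K0) {g : UG F ι} (hg : g ∈ normalizer (K0 : Set (UG F ι))) :
    ∃ f π, g = β f * σ π := by
  set K := normalizer (K0 : Set (UG F ι))
  have hi : ∀ a : ι, ∀ p ∈ (P : Subgroup (U1 F)), ins a p ∈ K0 := fun a p hp =>
    h0 (hS ▸ ins_mem_W a hp)
  have hσ : ∀ τ ∈ (T : Subgroup (Equiv.Perm ι)), σ τ ∈ K0 := fun τ hτ =>
    h0 (hS ▸ (wd F ι).σ_mem_W _ hτ)
  have ns : NoSw K := fun k hk c a b hab e =>
    hy (av T.isPGroup' tr hσ (sw P hQ hi hk hab e))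
  have hSK : (S : Subgroup (UG F ι)) ≤ K := h0.trans le_normalizer
  have syl : H49.IsSylowOf 2 ((wd F ι).W P T) K :=
    hS ▸ H49.Cfsg.IsPiHallOf.sub (H49.sylowOf_top Nat.prime_two S) hSK le_top
  have sc : GOLD.SC K (A F ι) :=
    GOLD.SC.of_sylow syl (A_le_W hQ _) (strongly_closed hQ syl ns)
  have hK : K ≤ normalizer (A F ι : Set (UG F ι)) := by
    refine le_norm_of_sc (S := S) (𝒯 := Set.range (t F)) ?_ (H82G.ea_mk fun a ha => A_sq ha) sc
      ?_ ?_ hSK ?_ S.isPGroup' ?_ ?_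
    · exact le_antisymm (A_le fun a => subset_closure ⟨a, rfl⟩)
        ((closure_le _).2 (by rintro _ ⟨a, rfl⟩; exact t_mem_A a))
    · rintro k hk _ ⟨c, rfl⟩
      obtain ⟨b, hb⟩ := perm_of_norm hk c
      exact ⟨b, hb.symm⟩
    · rintro _ ⟨a, rfl⟩ _ ⟨b, rfl⟩ _ ⟨c, rfl⟩ _ ⟨d, rfl⟩ hab e
      rcases t_pair (fun h => hab (by rw [h])) e with h | h <;> simp [h]
    · intro s hs
      rw [hS] at hs
      obtain ⟨f, -, τ, -, rfl⟩ := (wd F ι).mem_W.1 hs
      exact mono_norm_A f τ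
    · rintro _ ⟨a, rfl⟩ _ ⟨b, rfl⟩
      obtain ⟨τ, hτ, rfl⟩ := tr a b
      exact ⟨σ τ, hS ▸ (wd F ι).σ_mem_W _ hτ, σ_conj_ins τ a _⟩
    · rw [le_centralizer_iff]
      refine A_le fun c x hx => odd_cent ?_ (fun a q hq => ?_) c x hx
      · exact Nat.coprime_two_right.1 (GOLD.od_O K)
      · exact H82G.le_norm_O K (le_normalizer (hi a q (hQ hq)))
  exact mono_of_perm (perm_of_norm (hK hg))

theorem norm_sylow [Nonempty ι]
    (hd : normalizer (P : Set (U1 F)) ≤ P ∨ ((P : Subgroup (U1 F)) = Q F ∧ Small F))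
    {g : UG F ι} (hg : g ∈ normalizer ((S : Subgroup (UG F ι)) : Set (UG F ι))) :
    g ∈ (S : Subgroup (UG F ι)) ∨ ((P : Subgroup (U1 F)) = Q F ∧ Small F ∧
      ∃ s ∈ (S : Subgroup (UG F ι)), ∃ v : U1 F, (v = uw ∨ v = uw⁻¹) ∧ g = s * β fun _ => v) := by
  obtain ⟨a0⟩ := ‹Nonempty ι›
  obtain ⟨f, π, rfl⟩ := mono_of_not_mem hQ tr hS le_rfl
    (fun h => uw_not_mem P.isPGroup' (β_mem_W (hS ▸ h) a0)) hg
  rw [hS] at hg ⊢
  have hπ : π ∈ (T : Subgroup (Equiv.Perm ι)) := by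
    refine H64.perm_sylow_normalizer_le T (mem_normalizer_fintype fun τ hτ => ?_)
    obtain ⟨f', -, τ', hτ', e⟩ := (wd F ι).mem_W.1
      ((mem_normalizer_iff.1 hg _).1 ((wd F ι).σ_mem_W P hτ))
    rw [eq_mul_inv_iff_mul_eq, mono_mul, mul_assoc, ← map_mul] at e
    rw [← (eq_mul_inv_iff_mul_eq.2 (mono_inj e).2)]
    exact hτ'
  have hσ := (wd F ι).σ_mem_W (P : Subgroup (U1 F)) hπ
  have hf : β f ∈ normalizer ((wd F ι).W P T : Set (UG F ι)) :=
    (mul_mem_cancel_right (le_normalizer hσ)).1 hg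
  have h1 : ∀ a, f a ∈ normalizer ((P : Subgroup (U1 F)) : Set (U1 F)) := fun a =>
    mem_normalizer_fintype fun p hp => by
      have : β f * ins a p * (β f)⁻¹ ∈ (wd F ι).W P T :=
        (mem_normalizer_iff.1 hf (ins a p)).1 (ins_mem_W a hp)
      rw [β_conj_ins, ins_eq] at this
      have h2 := β_mem_W this a
      rwa [Pi.mulSingle_eq_same] at h2
  have h2 : ∀ a, f a * (f a0)⁻¹ ∈ (P : Subgroup (U1 F)) := fun a => by
    obtain ⟨τ, hτ, rfl⟩ := tr a0 a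
    have h3 := (wd F ι).σ_mem_W (P : Subgroup (U1 F)) hτ
    have := mul_mem ((mem_normalizer_iff.1 hf _).1 h3) (inv_mem h3)
    rw [show β f * (wd F ι).σ τ * (β f)⁻¹ * ((wd F ι).σ τ)⁻¹ =
      β f * ((wd F ι).σ τ * β f⁻¹ * ((wd F ι).σ τ)⁻¹) by rw [map_inv]; group, (wd F ι).conj',
      ← map_mul] at this
    simpa using β_mem_W this (τ a0)
  rcases hd with hd | ⟨hP, hs⟩
  · exact Or.inl (mul_mem ((wd F ι).β_mem_W _ fun a => hd (h1 a)) hσ)
  obtain ⟨q, hq, e, he⟩ := hs.2 (f a0) (hP ▸ h1 a0)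
  have h3 : β (fun a => f a * (f a0)⁻¹ * q) * σ π ∈ (wd F ι).W P T :=
    mul_mem ((wd F ι).β_mem_W _ fun a => mul_mem (h2 a) (hQ hq)) hσ
  have h4 : β f * σ π = β (fun a => f a * (f a0)⁻¹ * q) * σ π * β fun _ : ι => (uw : U1 F) ^ e := by
    rw [mul_assoc, (wd F ι).conj, ← mul_assoc, ← map_mul]
    congr 2
    funext a
    rw [Pi.mul_apply, mul_assoc, ← he, inv_mul_cancel_right]
  have h5 : (uw : U1 F) ^ e = uw ^ (e % 3) := by
    conv_lhs => rw [← Nat.div_add_mod e 3, pow_add, pow_mul, uw_cube, one_pow, one_mul]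
  rw [h4, h5]
  rcases (by omega : e % 3 = 0 ∨ e % 3 = 1 ∨ e % 3 = 2) with h | h | h <;> rw [h]
  · left
    rw [pow_zero, show (fun _ : ι => (1 : U1 F)) = 1 from rfl, map_one, mul_one]
    exact h3
  · exact Or.inr ⟨hP, hs, _, h3, _, Or.inl (pow_one _), rfl⟩
  · exact Or.inr ⟨hP, hs, _, h3, _, Or.inr (eq_inv_of_mul_eq_one_left (by
      rw [← pow_succ, uw_cube])), rfl⟩

theorem pp [Nonempty ι]
    (hd : normalizer (P : Set (U1 F)) ≤ P ∨ ((P : Subgroup (U1 F)) = Q F ∧ Small F)) :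
    PP (S : Subgroup (UG F ι)) := by
  intro g hg H hH
  rcases norm_sylow hQ tr hS hd hg with h | ⟨hP, hs, s, hsS, v, hv, rfl⟩
  · exact Or.inr fun K hK _ _ => hK h
  refine or_iff_not_imp_right.2 fun hc => ⟨s, hsS, ?_⟩
  push Not at hc
  obtain ⟨K, h0, h1, h2, h3⟩ := hc
  have hy : y F ι ∉ K := fun hy => h3 (mul_mem (h0 hsS) (by
    rcases hv with rfl | rfl
    · exact hy
    · have := inv_mem hy
      rwa [y, ← map_inv] at this))
  have hi : ∀ a : ι, ∀ p ∈ Q F, ins a p ∈ (S : Subgroup (UG F ι)) := fun a p hp =>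
    hS ▸ ins_mem_W a (hQ hp)
  have hσ : ∀ τ ∈ (T : Subgroup (Equiv.Perm ι)), σ τ ∈ K := fun τ hτ =>
    h0 (hS ▸ (wd F ι).σ_mem_W _ hτ)
  have nK : ∀ f : ι → U1 F, β f ∈ normalizer (K : Set (UG F ι)) → ∀ a,
      f a ∈ normalizer (K.comap (ins a) : Set (U1 F)) := fun f hf a =>
    mem_normalizer_fintype fun c hc => by
      have := (mem_normalizer_iff.1 hf _).1 hc
      rwa [β_conj_ins] at this
  have hY : ∀ f : ι → U1 F, β f ∈ H → ∀ a, f a ∈ normalizer (Q F : Set (U1 F)) := fun f hf a => by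
    refine l2 hs (X := K.comap (ins a)) (Y := (H.comap β).map (Pi.evalMonoidHom _ a))
      (fun q hq => h0 (hi a q hq)) (fun hw => hy (av T.isPGroup' tr hσ (mul_mem hw hw))) ?_ hv ?_
      ⟨f, hf, rfl⟩
    · rintro _ ⟨f', hf', rfl⟩
      exact nK f' (h1 hf') a
    · rintro _ ⟨f', hf', rfl⟩
      have h4 := le_normalizer (h0 hsS)
      have := mul_mem (mul_mem (inv_mem h4) (h2 _ hf')) h4
      rw [show s⁻¹ * (s * β (fun _ => v) * β f' * (s * β fun _ => v)⁻¹) * s =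
        β (fun _ => v) * β f' * (β fun _ => v)⁻¹ by group, ← map_inv, ← map_mul, ← map_mul] at this
      exact nK _ this a
  have hv' : v ∈ normalizer (Q F : Set (U1 F)) := by
    rcases hv with rfl | rfl
    exacts [uw_norm, inv_mem uw_norm]
  intro h hh
  obtain ⟨f, π, rfl⟩ := mono_of_not_mem hQ tr hS h0 hy (h1 hh)
  have hf : ∀ a, f a ∈ normalizer (Q F : Set (U1 F)) := fun a =>
    mem_normalizer_fintype fun q hq => by
      have e1 := mul_mem (mul_mem hh (hH (hi (π⁻¹ a) q hq))) (inv_mem hh)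
      rw [mono_conj_ins, show π (π⁻¹ a) = a by simp, ins_eq] at e1
      have e2 : f a * q * (f a)⁻¹ ∈ normalizer (Q F : Set (U1 F)) := by simpa using hY _ e1 a
      have e3 : IsPGroup 2 (zpowers (f a * q * (f a)⁻¹)) := by
        rintro ⟨_, n, rfl⟩
        refine ⟨2, Subtype.ext ?_⟩
        show ((f a * q * (f a)⁻¹) ^ n) ^ 4 = 1
        rw [← _root_.zpow_natCast, ← _root_.zpow_mul, mul_comm, _root_.zpow_mul, _root_.zpow_natCast,
          conj_pow, Q_pow_four hq]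
        simp
      rw [← hP] at e2
      have e4 := ((e3.inf_normalizer_sylow P).le ⟨mem_zpowers _, e2⟩).2
      rwa [hP] at e4
  rw [inv_mul_cancel_left, mul_assoc (_ * _), show (β fun _ : ι => v)⁻¹ * (β f * σ π)⁻¹ =
    (β f * σ π)⁻¹ * (β f * σ π * β (fun _ : ι => v) * (β f * σ π)⁻¹)⁻¹ by group, mono_conj_β,
    ← mul_assoc, mul_inv_cancel_right, ← map_inv, ← map_mul, hS]
  refine (wd F ι).β_mem_W _ fun a => hQ ?_
  obtain ⟨q, hq, e, he⟩ := hs.2 _ (hf a)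
  have e1 : (uw : U1 F) ^ e * v * (uw ^ e)⁻¹ = v := by
    rw [mul_inv_eq_iff_eq_mul]
    rcases hv with rfl | rfl
    · exact ((Commute.refl _).pow_left e).eq
    · exact ((Commute.refl _).pow_left e).inv_right.eq
  show v * (f a * v * (f a)⁻¹)⁻¹ ∈ Q F
  rw [he, show q * uw ^ e * v * (q * uw ^ e)⁻¹ = q * (uw ^ e * v * (uw ^ e)⁻¹) * q⁻¹ by group, e1,
    show v * (q * v * q⁻¹)⁻¹ = v * q * v⁻¹ * q⁻¹ by group]
  exact mul_mem ((mem_normalizer_iff.1 hv' q).1 hq) (inv_mem hq)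

end

theorem exists_pp {F : Type*} [Field F] [Fintype F] (hF : Odd (Fintype.card F)) (k : ℕ) :
    (∃ S : Sylow 2 (UG F (Fin (2 ^ k))), PP (S : Subgroup (UG F (Fin (2 ^ k))))) ∧
      Nonempty (UG F (Fin (2 ^ k)) ≃* Matrix.symplecticGroup (Fin (2 ^ k)) F) := by
  have : NeZero (2 : F) := ⟨fun h => by
    have := FiniteField.even_card_of_char_two (F := F)
      (CharP.ringChar_of_prime_eq_zero Nat.prime_two (by exact_mod_cast h))
    obtain ⟨n, hn⟩ := hF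
    omega⟩
  obtain ⟨P, hQ⟩ := (Q_pg (F := F)).exists_le_sylow
  obtain ⟨T, tr⟩ := exists_T k
  obtain ⟨S, hS⟩ := exists_sylow hF (2 ^ k) P T
  have : Nonempty (Fin (2 ^ k)) := ⟨⟨0, by positivity⟩⟩
  exact ⟨⟨S, pp hQ tr hS (dich hF P hQ)⟩, exists_iso⟩

end Cfsg.Agent.PN
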